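import Mathlib

set_option autoImplicit false
universe u

open scoped TensorProduct

namespace Groth.Agent.Tail8

variable {R A : Type u} [CommRing R] [CommRing A] [Algebra R A] (𝒜 : ℕ → Submodule R A) [GradedAlgebra 𝒜]

theorem exists_homogeneous_pos_notMem (𝔭 : HomogeneousIdeal 𝒜) (h : ¬ HomogeneousIdeal.irrelevant 𝒜 ≤ 𝔭) :
    ∃ e s, 0 < e ∧ s ∈ 𝒜 e ∧ s ∉ 𝔭.toIdeal := by
  classical
  by_contra! hc
  refine h fun x hx => ?_
  rw [HomogeneousIdeal.mem_irrelevant_iff] at hx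
  show x ∈ 𝔭.toIdeal
  rw [← DirectSum.sum_support_decompose 𝒜 x]
  refine Ideal.sum_mem _ fun i _ => ?_
  rcases Nat.eq_zero_or_pos i with rfl | hi
  · rw [GradedRing.proj_apply] at hx
    rw [hx]; exact Ideal.zero_mem _
  · exact hc i _ hi (DirectSum.decompose 𝒜 x i).2

theorem tail_prime (n₀ : ℕ) (hn₀ : 0 < n₀) (p : ℕ → AddSubgroup A) (hp : ∀ n : ℕ, n₀ ≤ n → (p n : Set A) ⊆ 𝒜 n) :
    ((∃ 𝔭 : HomogeneousIdeal 𝒜, 𝔭.toIdeal.IsPrime ∧ ¬ HomogeneousIdeal.irrelevant 𝒜 ≤ 𝔭 ∧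
        ∀ n : ℕ, n₀ ≤ n → (𝔭.toIdeal : Set A) ∩ 𝒜 n = p n) ↔
      ((∀ m n : ℕ, n₀ ≤ n → ∀ a ∈ 𝒜 m, ∀ b ∈ p n, a * b ∈ p (m + n)) ∧
        (∀ m n : ℕ, n₀ ≤ m → n₀ ≤ n → ∀ f ∈ 𝒜 m, ∀ g ∈ 𝒜 n, f * g ∈ p (m + n) → f ∈ p m ∨ g ∈ p n) ∧
        ∃ n : ℕ, n₀ ≤ n ∧ (p n : Set A) ≠ 𝒜 n)) ∧
    ∀ 𝔭 𝔮 : HomogeneousIdeal 𝒜, 𝔭.toIdeal.IsPrime → 𝔮.toIdeal.IsPrime →
      ¬ HomogeneousIdeal.irrelevant 𝒜 ≤ 𝔭 → ¬ HomogeneousIdeal.irrelevant 𝒜 ≤ 𝔮 →
      (∀ n : ℕ, n₀ ≤ n → (𝔭.toIdeal : Set A) ∩ 𝒜 n = p n) → (∀ n : ℕ, n₀ ≤ n → (𝔮.toIdeal : Set A) ∩ 𝒜 n = p n) →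
      𝔭 = 𝔮 := by
  classical
  have hiff : ∀ (𝔭 : HomogeneousIdeal 𝒜), (∀ n : ℕ, n₀ ≤ n → (𝔭.toIdeal : Set A) ∩ 𝒜 n = p n) →
      ∀ n, n₀ ≤ n → ∀ x ∈ 𝒜 n, x ∈ 𝔭.toIdeal ↔ x ∈ p n := fun 𝔭 h n hn x hx => by
    have := Set.ext_iff.mp (h n hn) x
    simp only [Set.mem_inter_iff, SetLike.mem_coe, hx, and_true] at this
    exact this
  refine ⟨⟨?_, ?_⟩, ?_⟩
  · rintro ⟨𝔭, hprime, hirr, h⟩
    have hm := hiff 𝔭 h
    refine ⟨fun m n hn a ha b hb => ?_, fun m n hm' hn f hf g hg hfg => ?_, ?_⟩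
    · have hbn : b ∈ 𝒜 n := hp n hn hb
      exact (hm (m + n) (by omega) _ (SetLike.mul_mem_graded ha hbn)).mp (Ideal.mul_mem_left _ _ ((hm n hn b hbn).mpr hb))
    · rcases hprime.mem_or_mem ((hm (m + n) (by omega) _ (SetLike.mul_mem_graded hf hg)).mpr hfg) with h1 | h1
      · exact Or.inl ((hm m hm' f hf).mp h1)
      · exact Or.inr ((hm n hn g hg).mp h1)
    · obtain ⟨e, s, he, hs, hs'⟩ := exists_homogeneous_pos_notMem 𝒜 𝔭 hirr
      have hs2 : s ^ n₀ ∈ 𝒜 (n₀ * e) := by simpa using SetLike.pow_mem_graded n₀ hs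
      have hle : n₀ ≤ n₀ * e := Nat.le_mul_of_pos_right _ he
      refine ⟨n₀ * e, hle, fun heq => hs' (hprime.mem_of_pow_mem n₀ ((hm _ hle _ hs2).mpr ?_))⟩
      show s ^ n₀ ∈ (p (n₀ * e) : Set A)
      rw [heq]; exact hs2
  · rintro ⟨h1, h2, n, hn, hne⟩
    obtain ⟨g, hg, hg'⟩ : ∃ g, g ∈ 𝒜 n ∧ g ∉ p n := by
      by_contra! hc
      exact hne (Set.Subset.antisymm (hp n hn) fun x hx => hc x hx)
    let I : Ideal A :=
      { carrier := {x | ∀ m, g * (DirectSum.decompose 𝒜 x m : A) ∈ p (n + m)}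
        add_mem' := fun {x y} hx hy m => by
          rw [DirectSum.decompose_add, DirectSum.add_apply, Submodule.coe_add, mul_add]
          exact (p _).add_mem (hx m) (hy m)
        zero_mem' := fun m => by simp
        smul_mem' := fun r x hx => by
          induction r using DirectSum.Decomposition.inductionOn 𝒜 with
          | zero => intro m; simp
          | @homogeneous i r =>
            intro m
            rw [smul_eq_mul, DirectSum.coe_decompose_mul_of_left_mem 𝒜 m r.2]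
            split_ifs with hle
            · have := h1 i (n + (m - i)) (by omega) _ r.2 _ (hx (m - i))
              rw [show i + (n + (m - i)) = n + m by omega] at this
              rwa [mul_left_comm]
            · rw [mul_zero]; exact (p _).zero_mem
          | add a b ha hb =>
            intro m
            rw [add_smul, DirectSum.decompose_add, DirectSum.add_apply, Submodule.coe_add, mul_add]
            exact (p _).add_mem (ha m) (hb m) }
    have hI : ∀ {m : ℕ} {x : A}, x ∈ 𝒜 m → (x ∈ I ↔ g * x ∈ p (n + m)) := by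
      intro m x hx
      constructor
      · intro h
        have := h m
        rwa [DirectSum.decompose_of_mem_same 𝒜 hx] at this
      · intro h j
        by_cases hj : m = j
        · subst hj; rwa [DirectSum.decompose_of_mem_same 𝒜 hx]
        · rw [DirectSum.decompose_of_mem_ne 𝒜 hx hj, mul_zero]; exact (p _).zero_mem
    have hhom : I.IsHomogeneous 𝒜 := fun i x hx => (hI (DirectSum.decompose 𝒜 x i).2).mpr (hx i)
    have hgI : g ∉ I := fun h => by
      rcases h2 n n hn hn g hg g hg ((hI hg).mp h) with h | h <;> exact hg' h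
    have hprime : I.IsPrime := by
      refine hhom.isPrime_of_homogeneous_mem_or_mem (fun h => hgI (h ▸ Submodule.mem_top)) ?_
      rintro x y ⟨i, hx⟩ ⟨j, hy⟩ hxy
      have h3 := (hI (SetLike.mul_mem_graded hx hy)).mp hxy
      have h4 := h1 n (n + (i + j)) (by omega) g hg _ h3
      rw [show n + (n + (i + j)) = (n + i) + (n + j) by omega, show g * (g * (x * y)) = (g * x) * (g * y) by ring] at h4
      rcases h2 (n + i) (n + j) (by omega) (by omega) _ (SetLike.mul_mem_graded hg hx) _ (SetLike.mul_mem_graded hg hy) h4 with h | h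
      · exact Or.inl ((hI hx).mpr h)
      · exact Or.inr ((hI hy).mpr h)
    refine ⟨⟨I, hhom⟩, hprime, fun hle => hgI (hle ?_), fun m hm => ?_⟩
    · rw [HomogeneousIdeal.mem_irrelevant_iff, GradedRing.proj_apply, DirectSum.decompose_of_mem_ne 𝒜 hg (by omega)]
    · ext x
      constructor
      · rintro ⟨hxI, hx⟩
        exact (h2 n m hn hm g hg x hx ((hI hx).mp hxI)).resolve_left hg'
      · intro hx
        exact ⟨(hI (hp m hm hx)).mpr (h1 n m hm g hg x hx), hp m hm hx⟩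
  · intro 𝔭 𝔮 hP hQ hPi hQi hp' hq'
    have key : ∀ (P Q : HomogeneousIdeal 𝒜), Q.toIdeal.IsPrime → ¬ HomogeneousIdeal.irrelevant 𝒜 ≤ Q →
        (∀ n : ℕ, n₀ ≤ n → (P.toIdeal : Set A) ∩ 𝒜 n = p n) → (∀ n : ℕ, n₀ ≤ n → (Q.toIdeal : Set A) ∩ 𝒜 n = p n) → P ≤ Q := by
      intro P Q hQ hQi hP' hQ' x hx
      show x ∈ Q.toIdeal
      obtain ⟨e, s, he, hs, hs'⟩ := exists_homogeneous_pos_notMem 𝒜 Q hQi
      rw [← DirectSum.sum_support_decompose 𝒜 x]
      refine Ideal.sum_mem _ fun i _ => ?_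
      have h3 : s ^ n₀ * (DirectSum.decompose 𝒜 x i : A) ∈ 𝒜 (n₀ * e + i) :=
        SetLike.mul_mem_graded (by simpa using SetLike.pow_mem_graded n₀ hs) (DirectSum.decompose 𝒜 x i).2
      have hle : n₀ ≤ n₀ * e + i := le_add_right (Nat.le_mul_of_pos_right _ he)
      have h4 : s ^ n₀ * (DirectSum.decompose 𝒜 x i : A) ∈ Q.toIdeal :=
        (hiff Q hQ' _ hle _ h3).mpr ((hiff P hP' _ hle _ h3).mp (Ideal.mul_mem_left _ _ (P.isHomogeneous i hx)))
      exact (hQ.mem_or_mem h4).resolve_left fun h => hs' (hQ.mem_of_pow_mem n₀ h)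
    exact le_antisymm (key 𝔭 𝔮 hQ hQi hp' hq') (key 𝔮 𝔭 hP hPi hq' hp')

theorem bijective_of_mod {A : Type u} [CommRing A] (J : Ideal A)
    {M N : Type u} [AddCommGroup M] [Module A M] [AddCommGroup N] [Module A N]
    [IsHausdorff J M] [IsAdicComplete J N] [Module.Flat A M] (u : N →ₗ[A] M)
    (hsurj : ∀ m : M, ∃ n : N, m - u n ∈ (J • ⊤ : Submodule A M))
    (hinj : ∀ n : N, u n ∈ (J • ⊤ : Submodule A M) → n ∈ (J • ⊤ : Submodule A N)) :
    Function.Bijective u := by
  classical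
  let q := (J • ⊤ : Submodule A N).mkQ
  let q' := (J • ⊤ : Submodule A M).mkQ
  let ub : (N ⧸ (J • ⊤ : Submodule A N)) →ₗ[A] M ⧸ (J • ⊤ : Submodule A M) :=
    Submodule.mapQ _ _ u (Submodule.map_le_iff_le_comap.mp (by rw [Submodule.map_smul'']; exact Submodule.smul_mono le_rfl le_top))
  have hub : Function.Bijective ub := by
    constructor
    · rw [injective_iff_map_eq_zero]
      intro z hz
      obtain ⟨n, rfl⟩ := Submodule.mkQ_surjective _ z
      exact (Submodule.Quotient.mk_eq_zero _).mpr (hinj n ((Submodule.Quotient.mk_eq_zero _).mp hz))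
    · intro z
      obtain ⟨m, rfl⟩ := Submodule.mkQ_surjective _ z
      obtain ⟨n, hn⟩ := hsurj m
      exact ⟨q n, ((Submodule.Quotient.eq _).mpr hn).symm⟩
  constructor
  · rw [injective_iff_map_eq_zero]
    intro n hn
    refine IsHausdorff.haus (inferInstance : IsHausdorff J N) n fun k => ?_
    rw [SModEq.zero]
    induction k with
    | zero => simp
    | succ k ih =>
      let μ : ∀ (X : Type u) [AddCommGroup X] [Module A X], (J ^ k : Ideal A) ⊗[A] X →ₗ[A] X :=
        fun X _ _ => (TensorProduct.lid A X).toLinearMap ∘ₗ LinearMap.rTensor X (J ^ k).subtype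
      obtain ⟨t, rfl⟩ : ∃ t, μ N t = n := by
        refine Submodule.smul_induction_on ih (fun r hr y _ => ⟨(⟨r, hr⟩ : (J ^ k : Ideal A)) ⊗ₜ y, by simp [μ]⟩) ?_
        rintro x y ⟨s, rfl⟩ ⟨t, rfl⟩
        exact ⟨s + t, map_add _ _ _⟩
      have h1 : μ M (u.lTensor _ t) = 0 := by
        rw [← hn]
        clear hn ih
        induction t using TensorProduct.induction_on with
        | zero => simp
        | tmul i x => simp [μ]
        | add a b ha hb => simp [ha, hb]
      have hi : Function.Injective (μ M) :=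
        (TensorProduct.lid A M).injective.comp (Module.Flat.rTensor_preserves_injective_linearMap _ (J ^ k).injective_subtype)
      have h2 : u.lTensor (J ^ k : Ideal A) t = 0 := hi (by rw [h1, map_zero])
      have h3 : q.lTensor (J ^ k : Ideal A) t = 0 := by
        apply ((LinearEquiv.ofBijective ub hub).lTensor (J ^ k : Ideal A)).injective
        rw [map_zero]
        show ub.lTensor _ (q.lTensor _ t) = 0
        rw [← LinearMap.comp_apply, ← LinearMap.lTensor_comp,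
          show ub ∘ₗ q = q'.comp u from Submodule.mapQ_mkQ _ _ _,
          LinearMap.lTensor_comp, LinearMap.comp_apply, h2, map_zero]
      obtain ⟨s, hs⟩ := (lTensor_exact (J ^ k : Ideal A) (LinearMap.exact_subtype_mkQ _) (Submodule.mkQ_surjective _) t).mp h3
      rw [← hs, pow_succ]
      clear hs
      induction s using TensorProduct.induction_on with
      | zero => simp
      | tmul i x =>
        simp [μ]
        rw [Submodule.mul_smul]
        exact Submodule.smul_mem_smul i.2 x.2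
      | add a b ha hb => simp only [map_add]; exact add_mem ha hb
  · exact surjective_of_mkQ_comp_surjective (I := J) (f := u) (fun z => by
      obtain ⟨m, rfl⟩ := Submodule.mkQ_surjective _ z
      obtain ⟨n, hn⟩ := hsurj m
      exact ⟨n, ((Submodule.Quotient.eq _).mpr hn).symm⟩)

end Groth.Agent.Tail8
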